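import Cfsg.Agent.H756.PU.Stmts

/-!
# S5258: coordinates in `UG K` (helper199)

* `zz α` : the element of `Z` with coordinate `α`;
* `comm_Z2` : `[w, g] = zz (r star b - star r b)` for `w ∈ Z₂`;
* `comm_VV_Q2` : `[V, Q₂] = 1`; `comm_VV_mem` : `[V, S] ≤ Z₂`; `comm_Z2_mem` : `[Z₂, S] ≤ Z`;
* `exists_comm_Z2` : `[Z₂, g] = Z` for `g ∉ Q₂`.
-/

set_option autoImplicit false

namespace Cfsg.Agent.H199.PU

open Cfsg Cfsg.FusionSystem Cfsg.Agent.H756.PU Cfsg.Agent.H756.PU.UG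

universe u

theorem comm_eq_iff {G : Type*} [Group G] {x y z : G} : x * y * x⁻¹ * y⁻¹ = z ↔ x * y = z * (y * x) := by
  constructor
  · rintro rfl; group
  · intro h
    rw [h]; group

variable {K : Type u} [Field K] [StarRing K]

theorem mem_ZS {g : UG K} : g ∈ ZS K ↔ g.r = 0 ∧ g.u1 = 0 ∧ g.u2 = 0 ∧ g.b = 0 ∧ g.c = 0 := Iff.rfl
theorem mem_Z2 {g : UG K} : g ∈ Z2 K ↔ g.r = 0 ∧ g.u1 = 0 ∧ g.u2 = 0 ∧ g.c = 0 := Iff.rfl
theorem mem_VV {g : UG K} : g ∈ VV K ↔ g.r = 0 ∧ g.u1 = 0 ∧ g.u2 = 0 := Iff.rfl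
theorem mem_YY {g : UG K} : g ∈ YY K ↔ g.r = 0 ∧ g.u2 = 0 := Iff.rfl
theorem mem_Q2 {g : UG K} : g ∈ Q2 K ↔ g.r = 0 := Iff.rfl
theorem mem_Q1 {g : UG K} : g ∈ Q1 K ↔ g.u2 = 0 ∧ g.c = 0 := Iff.rfl
theorem mem_QV {g : UG K} : g ∈ QV K ↔ g.u2 = 0 := Iff.rfl

variable (K) in
theorem ZS_le_Z2 : ZS K ≤ Z2 K := fun _ h => ⟨h.1, h.2.1, h.2.2.1, h.2.2.2.2⟩
variable (K) in
theorem Z2_le_VV : Z2 K ≤ VV K := fun _ h => ⟨h.1, h.2.1, h.2.2.1⟩
variable (K) in
theorem VV_le_Q2 : VV K ≤ Q2 K := fun _ h => h.1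

/-- the element of `Z` with coordinate `α` -/
def zz (α : K) (h : α + star α = 0) : UG K where
  r := 0
  u1 := 0
  u2 := 0
  a := α
  b := 0
  c := 0
  ha := by simpa using h
  hc := by simp

theorem zz_mem (α : K) (h : α + star α = 0) : zz α h ∈ ZS K := ⟨rfl, rfl, rfl, rfl, rfl⟩

theorem eq_zz {g : UG K} (hg : g ∈ ZS K) : ∃ h : g.a + star g.a = 0, g = zz g.a h := by
  obtain ⟨h1, h2, h3, h4, h5⟩ := hg
  have h := g.ha
  rw [h2, zero_mul, add_zero] at h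
  exact ⟨h, UG.ext h1 h2 h3 rfl h4 h5⟩

theorem comm_Z2 {w g : UG K} (hw : w ∈ Z2 K) (h : g.r * star w.b - star g.r * w.b +
    star (g.r * star w.b - star g.r * w.b) = 0) :
    w * g * w⁻¹ * g⁻¹ = zz (g.r * star w.b - star g.r * w.b) h := by
  obtain ⟨h1, h2, h3, h4⟩ := hw
  rw [comm_eq_iff]
  ext
  · simp [zz, h1]
  · simp [zz, h1, h2, h3]
  · simp [zz, h3]
  · simp only [zz, mul_a, d, mul_r, mul_u1, mul_u2, mul_b, mul_c, h1, h2, h3, h4, star_zero, star_add]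
    ring
  · simp only [zz, mul_b, mul_r, mul_u1, mul_u2, h1, h2, h3, h4, star_zero]
    ring
  · simp [zz, h3, h4]

theorem comm_Z2_coord (x y : K) : x * star y - star x * y + star (x * star y - star x * y) = 0 := by
  simp only [star_sub, star_mul', star_star]
  ring

/-- `[Z₂, S] ≤ Z` -/
theorem comm_Z2_mem {w : UG K} (hw : w ∈ Z2 K) (g : UG K) : w * g * w⁻¹ * g⁻¹ ∈ ZS K := by
  rw [comm_Z2 hw (comm_Z2_coord _ _)]
  exact zz_mem _ _

/-- `[V, Q₂] = 1` -/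
theorem comm_VV_Q2 {v x : UG K} (hv : v ∈ VV K) (hx : x ∈ Q2 K) : v * x = x * v := by
  obtain ⟨h1, h2, h3⟩ := hv
  have hx' : x.r = 0 := hx
  ext
  · simp [h1, hx']
  · simp [h1, h2, h3, hx']
  · simp [h3]
  · simp only [mul_a, d, h1, h2, h3, hx', star_zero]
    ring
  · simp only [mul_b, h1, h2, h3, hx', star_zero]
    ring
  · simp only [mul_c, h3, star_zero]
    ring

/-- `[V, S] ≤ Z₂` -/
theorem comm_VV_mem {v : UG K} (hv : v ∈ VV K) (g : UG K) : v * g * v⁻¹ * g⁻¹ ∈ Z2 K := by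
  obtain ⟨h1, h2, h3⟩ := hv
  have hc := v.hc
  have hg := g.hc
  rw [h3, zero_mul, add_zero] at hc
  refine ⟨?_, ?_, ?_, ?_⟩
  · simp [h1]
  · simp only [mul_u1, mul_r, mul_u2, inv_r, inv_u1, inv_u2, h1, h2, h3]
    ring
  · simp [h3]
  · simp only [mul_c, inv_c, mul_u2, inv_u2, h3, star_neg, star_zero]
    linear_combination hc + hg

/-- `star` is not `- id` -/
theorem exists_star {p n : ℕ} (hK : HypK K p n) : ∃ θ : K, θ + star θ ≠ 0 := by
  have hfin := hK.fin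
  by_contra hcon
  push Not at hcon
  have h1 : ∀ x : K, star x = x := by
    intro x
    have h2 : (1 : K) = -1 := by
      have := hcon 1
      rw [star_one] at this
      linear_combination this
    have h3 := hcon x
    have h4 : x = -x := by
      calc x = 1 * x := (one_mul x).symm
        _ = (-1) * x := by rw [← h2]
        _ = -x := by ring
    linear_combination h3 + h4 * (-1)
  have hft := Fintype.ofFinite K
  have hcard : Fintype.card K = (p ^ n) ^ 2 := by rw [← Nat.card_eq_fintype_card, hK.card]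
  have hq : 2 ≤ p ^ n := by
    calc 2 ≤ p := hK.pp.two_le
      _ = p ^ 1 := (pow_one p).symm
      _ ≤ p ^ n := Nat.pow_le_pow_right hK.pp.pos hK.hn
  have h2 : ∀ x : Kˣ, x ^ (p ^ n - 1) = 1 := by
    intro x
    have h3 : (x : K) ^ (p ^ n) = x := by rw [← hK.star_eq, h1]
    have h4 : x ^ (p ^ n) = x := Units.ext (by rw [Units.val_pow_eq_pow_val, h3])
    have h5 : x ^ (p ^ n - 1) * x = 1 * x := by
      rw [← pow_succ, one_mul, show p ^ n - 1 + 1 = p ^ n by omega, h4]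
    exact mul_right_cancel h5
  have h3 := (FiniteField.forall_pow_eq_one_iff K (p ^ n - 1)).1 h2
  rw [hcard] at h3
  have h4 := Nat.le_of_dvd (by omega) h3
  have h5 : p ^ n < (p ^ n) ^ 2 := by nlinarith
  omega

/-- `[Z₂, g] = Z` for `g ∉ Q₂` -/
theorem exists_comm_Z2 {p n : ℕ} (hK : HypK K p n) {g z : UG K} (hg : g ∉ Q2 K) (hz : z ∈ ZS K) :
    ∃ w ∈ Z2 K, w * g * w⁻¹ * g⁻¹ = z := by
  obtain ⟨θ, hθ⟩ := exists_star hK
  obtain ⟨h0, hz'⟩ := eq_zz hz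
  have hr : g.r ≠ 0 := hg
  have hr' : star g.r ≠ 0 := by
    intro h
    apply hr
    rw [← star_star g.r, h, star_zero]
  -- `b = - z.a θ / (c star r)`
  obtain ⟨b, hb⟩ : ∃ b : K, star g.r * b = - z.a * θ / (θ + star θ) := ⟨(- z.a * θ / (θ + star θ)) / star g.r, by
    field_simp⟩
  have hsc : star (θ + star θ) = θ + star θ := by rw [star_add, star_star, add_comm]
  have hb' : g.r * star b = z.a * star θ / (θ + star θ) := by
    have h1 := congrArg star hb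
    rw [star_mul', star_star, star_div₀, star_mul', star_neg, hsc] at h1
    rw [h1]
    have h2 : star z.a = - z.a := by linear_combination h0
    rw [h2]
    ring
  refine ⟨{ r := 0, u1 := 0, u2 := 0, a := 0, b := b, c := 0, ha := by simp, hc := by simp }, ⟨rfl, rfl, rfl, rfl⟩, ?_⟩
  rw [comm_Z2 ⟨rfl, rfl, rfl, rfl⟩ (comm_Z2_coord _ _), hz']
  ext <;> simp only [zz]
  rw [hb, hb']
  field_simp
  ring

end Cfsg.Agent.H199.PU
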