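import Cfsg.Agent.H199.PU.Coord

/-!
# S5258: (E2) (helper199)

`E` essential, `Z₂ ≤ E`, `V ≰ E`: then `Z` is invariant.
-/

set_option autoImplicit false

namespace Cfsg.Agent.H199.PU

open Cfsg Cfsg.FusionSystem Cfsg.Agent.H756.PU Cfsg.Agent.H756.PU.UG

universe u

variable {K : Type u} [Field K] [StarRing K]

/-- the stabilizer of `Z` in `Aut(E)` -/
def stZ (E : Subgroup (UG K)) : Subgroup (MulAut E) where
  carrier := {g | ∀ e : E, (e : UG K) ∈ ZS K ↔ ((g e : E) : UG K) ∈ ZS K}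
  one_mem' := fun _ => Iff.rfl
  mul_mem' := by
    intro a b ha hb e
    rw [hb e, ha (b e)]
    rfl
  inv_mem' := by
    intro a ha e
    have h := ha (a⁻¹ e)
    have h1 : a (a⁻¹ e) = e := MulAut.apply_inv_self _ _ _
    rw [h1] at h
    exact h.symm

/-- if `g⁻¹(Z) ≤ Z` then `g` stabilizes `Z` -/
theorem mem_stZ [Finite (UG K)] {E : Subgroup (UG K)} {g : MulAut E}
    (h : ∀ e : E, (e : UG K) ∈ ZS K → ((g⁻¹ e : E) : UG K) ∈ ZS K) : g ∈ stZ E := by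
  have hfin : Finite {e : E // (e : UG K) ∈ ZS K} := inferInstance
  have hbij : Function.Bijective (fun e : {e : E // (e : UG K) ∈ ZS K} =>
      (⟨g⁻¹ e.1, h e.1 e.2⟩ : {e : E // (e : UG K) ∈ ZS K})) := by
    refine Function.Injective.bijective_of_finite fun a b hab => ?_
    apply Subtype.ext
    exact g⁻¹.injective (congrArg Subtype.val hab)
  intro e
  constructor
  · intro he
    obtain ⟨⟨y, hy⟩, hye⟩ := hbij.2 ⟨e, he⟩
    have h1 : g⁻¹ y = e := congrArg Subtype.val hye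
    have h2 : g e = y := by rw [← h1]; exact MulAut.apply_inv_self _ _ _
    rw [h2]; exact hy
  · intro he
    have h1 := h (g e) he
    have h2 : g⁻¹ (g e) = e := MulAut.inv_apply_self _ _ _
    rwa [h2] at h1

/-- for `g ∉ Γ₀` the group `g(Z₂)` lies in `Q₂` -/
theorem map_Z2_le {p n : ℕ} (hK : HypK K p n) [Finite (UG K)] {E : Subgroup (UG K)} (hE : Z2 K ≤ E) {g : MulAut E}
    (hg : g ∉ stZ E) (y : E) (hy : (y : UG K) ∈ Z2 K) : ((g y : E) : UG K) ∈ Q2 K := by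
  by_contra hcon
  apply hg
  refine mem_stZ fun e he => ?_
  obtain ⟨w, hw, hwe⟩ := exists_comm_Z2 hK hcon he
  -- `e = [w, g y]`, so `g⁻¹ e = [g⁻¹ w, y] ∈ [E, Z₂] ≤ Z`
  have h1 : e = (⟨w, hE hw⟩ : E) * g y * (⟨w, hE hw⟩ : E)⁻¹ * (g y)⁻¹ := Subtype.ext hwe.symm
  have h2 : g⁻¹ e = (g⁻¹ ⟨w, hE hw⟩) * y * (g⁻¹ ⟨w, hE hw⟩)⁻¹ * y⁻¹ := by
    have h3 : g⁻¹ (g y) = y := MulAut.inv_apply_self _ _ _
    rw [h1]
    simp only [map_mul, map_inv, h3]
  rw [h2]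
  have h4 := (ZS K).inv_mem (comm_Z2_mem hy ((g⁻¹ ⟨w, hE hw⟩ : E) : UG K))
  have h5 : (((g⁻¹ ⟨w, hE hw⟩) * y * (g⁻¹ ⟨w, hE hw⟩)⁻¹ * y⁻¹ : E) : UG K) =
      ((y : UG K) * ((g⁻¹ ⟨w, hE hw⟩ : E) : UG K) * (y : UG K)⁻¹ * ((g⁻¹ ⟨w, hE hw⟩ : E) : UG K)⁻¹)⁻¹ := by
    push_cast
    group
  rw [h5]
  exact h4

/-- **(E2)** -/
theorem stE2 (hComm : StComm.{u}) : StE2.{u} := by
  intro K _ _ p n hK E Γ hEss hE hV
  have hfin : Finite (UG K) := by
    have := hEss.fin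
    exact Finite.of_equiv (⊤ : Subgroup (UG K)) Subgroup.topEquiv.toEquiv
  have hΓ : Γ ≤ stZ E := by
    refine hComm hEss (stZ E) (VV K) ?_ hV ?_
    · intro v hv
      refine ⟨Subgroup.mem_top _, ?_⟩
      have key : ∀ v ∈ VV K, ∀ e ∈ E, v * e * v⁻¹ ∈ E := by
        intro v hv e he
        have h1 := E.mul_mem (hE (comm_VV_mem hv e)) he
        have h2 : v * e * v⁻¹ * e⁻¹ * e = v * e * v⁻¹ := by group
        rwa [h2] at h1
      refine Subgroup.mem_normalizer_iff.2 fun e => ⟨fun he => key v hv e he, fun he => ?_⟩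
      have h1 := key v⁻¹ ((VV K).inv_mem hv) _ he
      have h2 : v⁻¹ * (v * e * v⁻¹) * v⁻¹⁻¹ = e := by group
      rwa [h2] at h1
    · intro g hg hg0 a ha b hb α β hα hβ
      have hg0' : g⁻¹ ∉ stZ E := fun h => hg0 (inv_inv g ▸ (stZ E).inv_mem h)
      -- `α` centralizes `g(Z₂)`, `β` centralizes `g⁻¹(Z₂)`
      have hα1 : ∀ y : E, (y : UG K) ∈ Z2 K → α (g y) = g y := by
        intro y hy
        apply Subtype.ext
        rw [hα, comm_VV_Q2 ha (map_Z2_le hK hE hg0 y hy)]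
        group
      have hβ1 : ∀ y : E, (y : UG K) ∈ Z2 K → g (β (g⁻¹ y)) = y := by
        intro y hy
        have h1 : β (g⁻¹ y) = g⁻¹ y := by
          apply Subtype.ext
          rw [hβ, comm_VV_Q2 hb (map_Z2_le hK hE hg0' y hy)]
          group
        rw [h1]
        exact MulAut.apply_inv_self _ _ _
      -- `α e = z e` with `z ∈ Z₂`
      have hza : ∀ e : E, ((α e * e⁻¹ : E) : UG K) ∈ Z2 K := by
        intro e
        have h1 := comm_VV_mem ha (e : UG K)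
        have h2 : ((α e * e⁻¹ : E) : UG K) = a * (e : UG K) * a⁻¹ * (e : UG K)⁻¹ := by
          push_cast
          rw [hα]
        rw [h2]; exact h1
      have hzb : ∀ e : E, ((β e * e⁻¹ : E) : UG K) ∈ Z2 K := by
        intro e
        have h1 := comm_VV_mem hb (e : UG K)
        have h2 : ((β e * e⁻¹ : E) : UG K) = b * (e : UG K) * b⁻¹ * (e : UG K)⁻¹ := by
          push_cast
          rw [hβ]
        rw [h2]; exact h1
      apply MulEquiv.ext
      intro e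
      have e1 : (α * (g * β * g⁻¹)) e = α (g (β (g⁻¹ e))) := rfl
      have e2 : ((g * β * g⁻¹) * α) e = g (β (g⁻¹ (α e))) := rfl
      rw [e1, e2]
      -- `g β g⁻¹ e = g(z) e`
      obtain ⟨z, hz, hz'⟩ : ∃ z : E, (z : UG K) ∈ Z2 K ∧ β (g⁻¹ e) = z * g⁻¹ e :=
        ⟨β (g⁻¹ e) * (g⁻¹ e)⁻¹, hzb _, by group⟩
      obtain ⟨y, hy, hy'⟩ : ∃ y : E, (y : UG K) ∈ Z2 K ∧ α e = y * e := ⟨α e * e⁻¹, hza _, by group⟩
      have h1 : g (g⁻¹ e) = e := MulAut.apply_inv_self _ _ _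
      have h2 : g (β (g⁻¹ e)) = g z * e := by rw [hz', map_mul, h1]
      have h3 : g (β (g⁻¹ (y * e))) = g (β (g⁻¹ y)) * g (β (g⁻¹ e)) := by simp only [map_mul]
      rw [h2, map_mul, hα1 z hz, hy', h3, hβ1 y hy, h2]
      -- `y` and `g z` commute
      have h4 : g z * y = y * g z := by
        apply Subtype.ext
        exact (comm_VV_Q2 (Z2_le_VV K hy) (map_Z2_le hK hE hg0 z hz)).symm
      rw [← mul_assoc, ← mul_assoc, h4]
  refine ⟨(ZS_le_Z2 K).trans hE, fun γ hγ e he => ((hΓ hγ) e).1 he⟩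

end Cfsg.Agent.H199.PU
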